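import Cfsg.Agent.Block.BDAb

/-!
Contribution matrices of blocks with elementary abelian defect groups.
-/

set_option autoImplicit false

open scoped MonoidAlgebra ComplexConjugate
open Cfsg Cfsg.Lib.Char Cfsg.Lib.Block Cfsg.Lib.Block.Pair Cfsg.Lib.Block.Star Subgroup

namespace Cfsg.Lib.R16

universe u

variable {M : Ideal AlgInt} {P : Type u} [Group P]

theorem diag (b : BD 2 M P) (he : ∀ x : P, x * x = 1) (u : P) :
    ∃ N : IrrCharacter b.G → IrrCharacter b.G → ℤ,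
      (∀ χ ψ, (Nat.card P : ℂ) * b.mat (b.dlt u) χ ψ = N χ ψ) ∧
      (∀ χ ∈ b.B, ∀ ψ ∈ b.B, Odd (N χ ψ) ↔
        blockHeight 2 b.B (χ : b.G → ℂ) = 0 ∧ blockHeight 2 b.B (ψ : b.G → ℂ) = 0) ∧
      ∀ χ ∈ b.B, 0 < N χ χ ∧ (blockHeight 2 b.B (χ : b.G → ℂ) ≠ 0 → 4 ∣ N χ χ) := by
  have hi : ∀ x : P, x⁻¹ = x := fun x => inv_eq_of_mul_eq_one_right (he x)
  have hu : u ∈ center P := mem_center_iff.2 fun g => by
    rw [← hi (g * u), mul_inv_rev, hi, hi]
  have hc := b.le_cent hu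
  have hd : blockDefect 2 (b.sb u) = blockDefect 2 b.B :=
    blockDefect_subBlk_of_le b.hM b.hB b.max (b.mem u) hc
  have hind : IsInducedBlock M _ (b.sb u) b.B := isInducedBlock_subBlk b.hM b.hB b.max (b.mem u)
  have ho : ∃ k : ℕ, orderOf (b.ι u) = 2 ^ k := orderOf_mem b.hM b.max (b.eqv u)
  have hζ : IsPrimitiveRoot (-1 : ℂ) (2 ^ (0 + 1)) := by
    simpa using IsPrimitiveRoot.neg_one (R := ℂ) 0 (by norm_num)
  have hm : ∀ χ ψ : IrrCharacter b.G, b.mat (b.dlt u) χ ψ = ctr 2 M b.D b.e χ ψ (b.eqv u) :=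
    fun χ ψ => BD.mat_dl (fun _ hv => if_pos hv) (fun _ hv => if_neg hv) χ ψ
  have e1 : ∀ χ ψ : IrrCharacter b.G, (Nat.card P : ℂ) * b.mat (b.dlt u) χ ψ =
      ((2 : ℕ) : ℂ) ^ blockDefect 2 b.B * classInner (subRes 2 _ (b.ι u) (b.sb u) χ)
        (subRes 2 _ (b.ι u) (b.sb u) ψ) := fun χ ψ => by
    rw [hm, b.card_eq, Nat.cast_pow]
    congr 1
    exact @ctr_eq _ _ _ _ _ _ _ _ _ _ b.hM b.max χ.2.isClassFunction ψ.2.isClassFunction (b.eqv u)
      (b.finC u)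
  choose a ha using fun χ : IrrCharacter b.G => exists_isParts Nat.prime_two (u := b.ι u) rfl hζ
    (by rw [← map_pow, zero_add, pow_one, sq, he, map_one]) (b.sb u) χ.2.isGeneralizedCharacter
  have e2 : ∀ χ ψ : IrrCharacter b.G, ∃ n : ℤ, (Nat.card P : ℂ) * b.mat (b.dlt u) χ ψ = n :=
    fun χ ψ => by
      have h1 := (ha χ).inner (ha ψ) 1
      rw [pow_one, hd] at h1
      refine ⟨∑ i, ∑ j, (-1) ^ (1 * Cyc.ex i) * (-1) ^ (1 * Cyc.ex j) *
        bf 2 (b.sb u) (a χ i) (a ψ j), ?_⟩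
      rw [e1, h1]
      simp
  choose N hN using e2
  refine ⟨N, hN, fun χ hχ ψ hψ => ?_, fun χ hχ => ⟨?_, fun h0 => ?_⟩⟩
  · have h1 := (ha χ).vM_inner_lt_one_iff b.hM hind hζ hχ hψ (ha ψ) 1
    rw [pow_one, hd, ← e1, hN, vM_intCast_lt_one_iff b.hM] at h1
    rw [← Int.not_even_iff_odd, even_iff_two_dvd]
    push_cast at h1
    rw [h1]
    tauto
  · have h1 := ctr_self_re_nonneg b.hM b.max χ.2.isClassFunction (b.eqv u)
    have h2 := (ctr_self_eq_zero b.hM b.max χ.2.isClassFunction (b.eqv u)).not.2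
      (sr_ne_zero_of_central b.hM b.max b.hB hχ hc)
    have := b.finite
    have h3 : (Nat.card P : ℂ) ≠ 0 := Nat.cast_ne_zero.2 Nat.card_pos.ne'
    rw [← hm] at h1 h2
    have h4 := congrArg Complex.re (hN χ χ)
    rw [Complex.mul_re, Complex.natCast_re, Complex.natCast_im, zero_mul, sub_zero,
      Complex.intCast_re] at h4
    have h5 : (0 : ℝ) ≤ N χ χ := h4 ▸ mul_nonneg (Nat.cast_nonneg _) h1
    refine lt_of_le_of_ne (by exact_mod_cast h5) fun h => mul_ne_zero h3 h2 ?_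
    rw [hN, ← h, Int.cast_zero]
  · have h1 := vM_contr_le b.hM rfl ho hind.1 χ.2.isGeneralizedCharacter hχ
    have h2 := (vM_contr_eq_iff b.hM rfl ho hind hd hχ hχ).not.2 h0
    rw [← e1, hN] at h1 h2
    obtain ⟨c, hc⟩ := (vM_intCast_le_pow_iff b.hM _ _).1 h1
    have h3 : (2 : ℤ) ∣ c := by
      by_contra h
      refine h2 ?_
      have h4 : vM M (c : ℂ) = 1 := le_antisymm (vM_intCast_le_one c)
        (not_lt.1 fun h' => h (by simpa using (vM_intCast_lt_one_iff b.hM c).1 h'))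
      rw [hc]
      push_cast
      rw [map_mul, map_pow, h4, mul_one]
    obtain ⟨k, hk⟩ := Nat.exists_eq_succ_of_ne_zero h0
    obtain ⟨c, rfl⟩ := h3
    rw [hc, hk, pow_succ]
    exact ⟨2 ^ k * c, by push_cast; ring⟩

end Cfsg.Lib.R16
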