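import Cfsg.Agent.Block.BD16
import Cfsg.Agent.Block.Major
import Cfsg.Agent.Block.BrauerFeit

/-!
Heights in 2-blocks with a nonabelian defect group of order `16`.
-/

set_option autoImplicit false

open scoped ComplexConjugate MonoidAlgebra
open Cfsg Cfsg.Lib.Char Cfsg.Lib.Block Cfsg.Lib.Block.Pair Cfsg.Lib.Block.Cyc Subgroup

namespace Cfsg.Lib.R16

universe u

namespace Z4H

theorem grp {P : Type*} [Group P] [Finite P] (hP : Nat.card P = 16) (h4 : (center P).index = 4) :
    ∃ z w : P, z ∈ center P ∧ w ∈ center P ∧ z ≠ 1 ∧ w ≠ 1 ∧ z ^ 2 = 1 ∧ ∀ a : MulAut P, a z ≠ w := by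
  have h10 : Nat.card (commutator P) = 2 := (Agent.S4584.result 2 hP).2 h4
  obtain ⟨⟨z, hz⟩, z1, hu⟩ := (Nat.card_eq_two_iff' (1 : commutator P)).1 h10
  have z1' : z ≠ 1 := fun e => z1 (Subtype.ext e)
  have key : ∀ a : MulAut P, a z = z := fun a => congrArg Subtype.val (hu
    ⟨a z, (characteristic_iff_map_le.1 inferInstance a) ⟨z, hz, rfl⟩⟩
    fun e => z1' ((map_eq_one_iff a a.injective).1 (congrArg Subtype.val e)))
  have zc : z ∈ center P := mem_center_iff.2 fun g => mul_inv_eq_iff_eq_mul.1 (key (MulAut.conj g))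
  have z2 : z ^ 2 = 1 := by
    have := pow_card_eq_one' (x := (⟨z, hz⟩ : commutator P))
    rw [h10] at this
    exact congrArg Subtype.val this
  have h5 := (center P).index_mul_card
  rw [h4, hP] at h5
  obtain ⟨w, hw, hn⟩ : ∃ w ∈ center P, w ∉ commutator P := by
    by_contra! h
    have := card_le_of_le (show center P ≤ commutator P from h)
    omega
  exact ⟨z, w, zc, hw, z1', fun e => hn (e ▸ one_mem _), z2, fun a e => hn (e ▸ (key a).symm ▸ hz)⟩

variable {G : Type u} [Group G] [Fintype G] {M : Ideal AlgInt} {B : Set (IrrCharacter G)}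
  {D : Subgroup G} {e : (kM M)[G]}

noncomputable instance finC (u : G) : Fintype (centralizer ({u} : Set G)) := Fintype.ofFinite _

/-- The contribution of a subsection. -/
noncomputable def ct (M : Ideal AlgInt) (D : Subgroup G) (e : (kM M)[G]) (χ : G → ℂ) (u : G) : ℂ :=
  classInner (subRes 2 _ u (subBlk 2 M D e u) χ) (subRes 2 _ u (subBlk 2 M D e u) χ)

theorem ct_eq_1' : type_of% @ct.eq_1 := @ct.eq_1

/-- Bessel's inequality for pairwise non-fused subsections. -/
theorem sum_ct_le (hM : IsPModular 2 M) (h : IsMax 2 ⊤ ⊤ (eB M B) D e) (χ : IrrCharacter G)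
    (X : Finset G) (hX : ∀ u ∈ X, u ∈ D) (hn : ∀ u ∈ X, ∀ v ∈ X, EF 2 D e u v → u = v) :
    ∑ u ∈ X, (ct M D e χ u).re ≤ 1 := by
  classical
  let f : G → G → ℂ := fun u => secInd 2 _ u (subRes 2 _ u (subBlk 2 M D e u) χ)
  have sp := fun u (hu : u ∈ X) => inSpan_subRes (p := 2) (u := u) hM (isPBlock_subBlk hM h (hX u hu)) (χ : G → ℂ)
  have l : ∀ u ∈ X, ∀ θ, IsClassFunction G θ → classInner (f u) θ =
      classInner (subRes 2 _ u (subBlk 2 M D e u) χ) (subRes 2 _ u (subBlk 2 M D e u) θ) :=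
    fun u hu θ hθ => classInner_secInd_subRes hM (cent_self_mem rfl)
      (isPBlock_subBlk hM h (hX u hu)) (sp u hu) hθ
  have r : ∀ u ∈ X, classInner χ (f u) = ct M D e χ u := fun u hu =>
    classInner_subRes_secInd hM (cent_self_mem rfl) (isPBlock_subBlk hM h (hX u hu)) (sp u hu)
      χ.2.isClassFunction
  have o : ∀ u ∈ X, classInner (f u) (∑ v ∈ X, f v) = ct M D e χ u := fun u hu => by
    rw [classInner_sum_right, Finset.sum_eq_single u (fun v hv ne => ?_) (fun h' => (h' hu).elim)]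
    · rw [l u hu _ (isClassFunction_secInd _ _ _ _), subRes_secInd_of_inSpan hM rfl
        (isMax_pElt h (hX u hu)) (isPBlock_subBlk hM h (hX u hu)) (sp u hu), pRegularPart_subRes, ct]
    · rw [l u hu _ (isClassFunction_secInd _ _ _ _), subRes_secInd_of_not_ef hM h (hX v hv) (hX u hu)
        (fun h' => ne (hn v hv u hu h')) (sp v hv), classInner_zero_right]
  have key := classInner_self_re_nonneg ((χ : G → ℂ) - ∑ v ∈ X, f v)
  rw [classInner_sub_left, classInner_sub_right, classInner_sub_right, χ.2.classInner_self,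
    classInner_sum_right, Finset.sum_congr rfl r, classInner_sum_left, classInner_sum_left,
    Finset.sum_congr rfl o, Finset.sum_congr rfl fun u hu => l u hu _ χ.2.isClassFunction] at key
  change 0 ≤ (1 - ∑ u ∈ X, ct M D e χ u - (∑ u ∈ X, ct M D e χ u - ∑ u ∈ X, ct M D e χ u)).re at key
  rw [sub_self, sub_zero, Complex.sub_re, Complex.one_re, Complex.re_sum] at key
  linarith

theorem ct_pos (hM : IsPModular 2 M) (hB : IsPBlock M B) (h : IsMax 2 ⊤ ⊤ (eB M B) D e)
    {χ : IrrCharacter G} (hχ : χ ∈ B) {u : G} (hu : u ∈ D) (hc : D ≤ centralizer ({u} : Set G)) :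
    0 < (ct M D e χ u).re := by
  have h1 := subRes_ne_zero_of_major hM rfl (isMax_pElt h hu) (isInducedBlock_subBlk hM hB h hu)
    (blockDefect_subBlk_of_le hM hB h hu hc) hχ
  refine lt_of_le_of_ne (classInner_self_re_nonneg _) fun e0 => h1 (classInner_self_eq_zero.1 ?_)
  refine Complex.ext e0.symm ?_
  exact Complex.conj_eq_iff_im.1 (conj_classInner _ _)

theorem le_ct (hM : IsPModular 2 M) (hB : IsPBlock M B) (h : IsMax 2 ⊤ ⊤ (eB M B) D e)
    {χ : IrrCharacter G} (hχ : χ ∈ B) {u : G} (hu : u ∈ D) (hc : D ≤ centralizer ({u} : Set G))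
    (h2 : u ^ 2 = 1) (h0 : blockHeight 2 B (χ : G → ℂ) ≠ 0) :
    (2 : ℝ) ^ (blockHeight 2 B (χ : G → ℂ) + 1) ≤ 2 ^ blockDefect 2 B * (ct M D e χ u).re := by
  have hζ : IsPrimitiveRoot (-1 : ℂ) (2 ^ (0 + 1)) := IsPrimitiveRoot.neg_one 0 (by decide)
  have hd := blockDefect_subBlk_of_le hM hB h hu hc
  have hi := isInducedBlock_subBlk hM hB h hu
  obtain ⟨a, ha⟩ := exists_isParts Nat.prime_two (rfl : _ = centralizer ({u} : Set G)) hζ h2
    (subBlk 2 M D e u) χ.2.isGeneralizedCharacter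
  have h1 := Int.le_of_dvd (ha.avgQ_pos hM rfl hζ (isMax_pElt h hu) hi hd hχ)
    (ha.pow_succ_dvd_avgQ hM rfl hζ (isMax_pElt h hu) hi hd hχ h0)
  have h3 := ha.inner ha 1
  rw [pow_one, hd, Nat.cast_ofNat] at h3
  have h4 : ((avgQ a : ℤ) : ℂ) = (2 : ℂ) ^ blockDefect 2 B * ct M D e χ u := by
    rw [ct, h3, avgQ]
    simp [Fintype.sum_prod_type, ex, map_sub, LinearMap.sub_apply]
    ring
  have h5 := congrArg Complex.re h4
  rw [show (2 : ℂ) ^ blockDefect 2 B = ((2 ^ blockDefect 2 B : ℝ) : ℂ) by push_cast; rfl,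
    Complex.re_ofReal_mul, Complex.intCast_re] at h5
  rw [← h5]
  exact_mod_cast h1

end Z4H

open Z4H

theorem z4 {G : Type*} [Group G] [Finite G] (M : Ideal AlgInt) (hM : IsPModular 2 M)
    (B : Set (IrrCharacter G)) (hB : IsPBlock M B) (D : Subgroup G) (hD : IsDefectGroup 2 M B D)
    (h16 : Nat.card D = 16) (χ : IrrCharacter G) (hχ : χ ∈ B) (h4 : (center D).index = 4) :
    blockHeight 2 B (χ : G → ℂ) ≤ 1 := by
  classical
  have := Fintype.ofFinite G
  have := charP_kM hM
  by_contra h2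
  obtain ⟨e, h⟩ := exists_isMax_eB hM hB hD
  obtain ⟨z, w, zc, wc, z1, w1, z2, hn⟩ := grp h16 h4
  have hd : blockDefect 2 B = 4 := by
    have := card_defect hM hB hD
    rw [h16] at this
    exact (Nat.pow_right_injective le_rfl (show 2 ^ 4 = _ from this)).symm
  have cen : ∀ u : D, u ∈ center D → D ≤ centralizer ({(u : G)} : Set G) := fun u hu x hx =>
    mem_centralizer_singleton_iff.2 (congrArg Subtype.val (mem_center_iff.1 hu ⟨x, hx⟩))
  have z1' : (z : G) ≠ 1 := fun e => z1 (Subtype.ext e)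
  have w1' : (w : G) ≠ 1 := fun e => w1 (Subtype.ext e)
  have zw : ¬ EF 2 D e z w := fun h' => by
    obtain ⟨t, ht, e'⟩ := h'.exists_mem_stab h (cen z zc) (cen w wc)
    exact hn (D.normalizerMonoidHom ⟨t, ht.1⟩) (Subtype.ext e')
  have ne : (z : G) ≠ w := fun e' => hn 1 (Subtype.ext e')
  have s := sum_ct_le hM h χ {1, (z : G), (w : G)} (by simp) (by
    simp only [Finset.mem_insert, Finset.mem_singleton]
    rintro u (rfl | rfl | rfl) v (rfl | rfl | rfl) h'
    all_goals first
      | rfl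
      | exact (ef_one_left h').symm
      | exact ef_one_left h'.symm
      | exact (zw h').elim
      | exact (zw h'.symm).elim)
  rw [Finset.sum_insert (by simp [z1'.symm, w1'.symm]), Finset.sum_pair ne] at s
  have a1 := le_ct hM hB h hχ D.one_mem (cen 1 (one_mem _)) (one_pow 2) (by omega)
  have a2 := le_ct hM hB h hχ z.2 (cen z zc) (congrArg Subtype.val z2) (by omega)
  have a3 := ct_pos hM hB h hχ w.2 (cen w wc)
  have a4 : (2 : ℝ) ^ 3 ≤ 2 ^ (blockHeight 2 B (χ : G → ℂ) + 1) :=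
    pow_le_pow_right₀ (by norm_num) (by omega)
  rw [hd] at a1 a2
  linarith

/-- The nonabelian case. -/
theorem nonab {G : Type*} [Group G] [Finite G] (M : Ideal AlgInt) (hM : IsPModular 2 M)
    (B : Set (IrrCharacter G)) (hB : IsPBlock M B) (D : Subgroup G) (hD : IsDefectGroup 2 M B D)
    (h16 : Nat.card D = 16) (χ : IrrCharacter G) (hχ : χ ∈ B) (hc : ¬ IsMulCommutative D) :
    blockHeight 2 B (χ : G → ℂ) < ((center D).index).factorization 2 := by
  have hd : blockDefect 2 B = 4 := by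
    have := card_defect hM hB hD
    rw [h16] at this
    exact (Nat.pow_right_injective le_rfl (show 2 ^ 4 = _ from this)).symm
  obtain ⟨k, hk, e⟩ := (Nat.dvd_prime_pow Nat.prime_two).1
    (show (center D).index ∣ 2 ^ 4 from (center D).index_dvd_card.trans h16.dvd)
  have h8 : ¬ (center D).index ∣ 2 := fun e => hc (
    have := isCyclic_of_card_dvd_prime (α := D ⧸ center D) e
    isMulCommutative_of_isCyclic_quotient_center_self D)
  have h2 : blockHeight 2 B (χ : G → ℂ) ≤ 2 := by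
    by_contra h
    have := blockHeight_add_two_le hM hB hχ (by omega)
    omega
  rw [e, Nat.Prime.factorization_pow Nat.prime_two, Finsupp.single_eq_same]
  obtain rfl | rfl | rfl | h3 : k = 0 ∨ k = 1 ∨ k = 2 ∨ 3 ≤ k := by omega
  · exact (h8 (e ▸ by decide)).elim
  · exact (h8 (e ▸ by decide)).elim
  · exact Nat.lt_succ_of_le (z4 M hM B hB D hD h16 χ hχ e)
  · omega

end Cfsg.Lib.R16
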