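import Cfsg.Agent.R16.Wt
import Cfsg.Agent.R16.Z4

/-!
Heights in `2`-blocks whose defect group has order `16` and is not elementary abelian.
-/

set_option autoImplicit false

open scoped MonoidAlgebra
open Cfsg Cfsg.Lib.Char Cfsg.Lib.Block Cfsg.Lib.Block.Pair Cfsg.Lib.Block.AG Subgroup

namespace Cfsg.Lib.R16

universe u

open Classical in
/-- The weighted bound in terms of the abstract defect group. -/
theorem wtB {M : Ideal AlgInt} {P : Type u} [Group P] [Fintype P] (b : BD 2 M P)
    {χ : IrrCharacter b.G} (hχ : χ ∈ b.B) (h0 : blockHeight 2 b.B (χ : b.G → ℂ) ≠ 0)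
    (c : P → ℝ) (hc0 : ∀ z, 0 ≤ c z)
    (hck : ∀ z ∈ center P, ∀ k, ¬ 2 ∣ k → c (z ^ k) = c z)
    (hc : ∀ w : P, ∑ z ∈ Finset.univ.filter (fun z : P => z ∈ center P ∧ b.ef z w), c z ≤ 1) :
    (2 : ℝ) ^ (blockHeight 2 b.B (χ : b.G → ℂ) + 1) *
      ∑ z ∈ Finset.univ.filter (fun z : P => z ∈ center P), c z ≤ Nat.card P := by
  have := Fintype.ofFinite b.D
  have hz : ∀ z : P, b.eqv z ∈ center b.D ↔ z ∈ center P := fun z => by
    simp only [mem_center_iff, b.eqv.surjective.forall, ← map_mul, b.eqv.injective.eq_iff]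
  have h := wt b.hM b.hB b.max hχ h0 (fun z => c (b.eqv.symm z)) (fun _ => hc0 _)
    (fun z hz' k hk => by
      obtain ⟨z, rfl⟩ := b.eqv.surjective z
      simp only [← map_pow, MulEquiv.symm_apply_apply]
      exact hck z ((hz z).1 hz') k hk)
    (fun w => by
      obtain ⟨w, rfl⟩ := b.eqv.surjective w
      refine le_of_eq_of_le ?_ (hc w)
      refine (Finset.sum_equiv b.eqv.toEquiv (fun z => ?_) fun z _ => ?_).symm
      · simp only [Finset.mem_filter, Finset.mem_univ, true_and, MulEquiv.toEquiv_eq_coe,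
          EquivLike.coe_coe, hz]
        rfl
      · simp)
  rw [b.card_D] at h
  refine le_of_eq_of_le ?_ h
  congr 1
  refine Finset.sum_equiv b.eqv.toEquiv (fun z => ?_) fun z _ => ?_
  · simp only [Finset.mem_filter, Finset.mem_univ, true_and, MulEquiv.toEquiv_eq_coe,
      EquivLike.coe_coe, hz]
  · simp

/-- Abelian defect group and inertial index at most three: all heights vanish. -/
theorem ab_small {M : Ideal AlgInt} {P : Type u} [Group P] (b : BD 2 M P)
    (hc : ∀ x y : P, x * y = y * x) (h : Nat.card b.aut ≤ 3) :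
    ∀ χ ∈ b.B, blockHeight 2 b.B (χ : b.G → ℂ) = 0 := fun χ hχ => by
  classical
  by_contra h0
  have := b.finite
  have := Fintype.ofFinite P
  have := Fintype.ofFinite b.aut
  have hZ : ∀ z : P, z ∈ center P := fun z => mem_center_iff.2 fun g => hc g z
  have h1 := wtB b hχ h0 (fun _ => 1 / 3) (fun _ => by norm_num) (fun _ _ _ _ => rfl) fun w => by
    have h2 : (Finset.univ.filter fun z : P => z ∈ center P ∧ b.ef z w).card ≤ 3 := by
      refine le_trans ?_ h
      rw [Nat.card_eq_fintype_card, ← Finset.card_univ]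
      refine (Finset.card_le_card fun z hz => ?_).trans
        (Finset.card_image_le (f := fun a : b.aut => (a : MulAut P) w))
      obtain ⟨a, ha, h3⟩ := (BD.ef_iff hc).1 (Finset.mem_filter.1 hz).2.2.symm
      exact Finset.mem_image.2 ⟨⟨a, ha⟩, Finset.mem_univ _, h3⟩
    have h3 : ((Finset.univ.filter fun z : P => z ∈ center P ∧ b.ef z w).card : ℝ) ≤ 3 := by
      exact_mod_cast h2
    rw [Finset.sum_const, nsmul_eq_mul]
    convert_to ((Finset.univ.filter fun z : P => z ∈ center P ∧ b.ef z w).card : ℝ) * (1 / 3) ≤ 1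
    linarith
  rw [Finset.filter_true_of_mem fun z _ => hZ z, Finset.sum_const, nsmul_eq_mul, Finset.card_univ,
    ← Nat.card_eq_fintype_card] at h1
  obtain ⟨n, hn⟩ := Nat.exists_eq_succ_of_ne_zero h0
  have h2 : (0 : ℝ) < Nat.card P := by exact_mod_cast Nat.card_pos
  have h3 : (1 : ℝ) ≤ 2 ^ n := one_le_pow₀ (by norm_num)
  rw [hn, pow_succ, pow_succ] at h1
  nlinarith

theorem card_aut_le_three {P : Type*} [Group P] [Finite P] (hc : ∀ x y : P, x * y = y * x)
    (h16 : Nat.card P = 16) {u : P} (hu : u ^ 2 ≠ 1) {E : Subgroup (MulAut P)}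
    (hE : ¬ 2 ∣ Nat.card E) : Nat.card E ≤ 3 := by
  have h0 : IsPGroup 2 P := .of_card (n := 4) h16
  have h1 : (zpowers u).index ∣ 4 := by
    obtain ⟨j, -, hj⟩ := (Nat.dvd_prime_pow Nat.prime_two (m := 4)).1
      ((orderOf_dvd_natCard u).trans (h16 ▸ dvd_rfl))
    have h1 : 2 ^ 2 ∣ orderOf u := hj ▸ pow_dvd_pow 2 (not_le.1 fun h => hu
      (orderOf_dvd_iff_pow_eq_one.1 (hj ▸ pow_dvd_pow 2 h)))
    have h2 := (zpowers u).index_mul_card
    rw [Nat.card_zpowers, h16] at h2
    exact Nat.dvd_of_mul_dvd_mul_right (by norm_num : 0 < 2 ^ 2)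
      ((mul_dvd_mul_left _ h1).trans (h2 ▸ dvd_rfl))
  have h2 : Nat.card E ∣ 3 * 7 := card_dvd_prod h0 (m := 3)
    ((index_frattini_dvd h0 u).trans (mul_dvd_mul_right h1 2)) hE
  refine Nat.le_of_dvd (by norm_num) (((Nat.Prime.coprime_iff_not_dvd (p := 7)
    (by norm_num)).2 fun h7 => ?_).symm.dvd_of_dvd_mul_right h2)
  have hq : Nat.Prime 7 := by norm_num
  obtain ⟨t, ht, h2⟩ := exists_prime_mem _ hq h7
  have h3 := card_Fx_modEq hq h2 (Om_inv (hc := hc) (n := 2) t)
  have h4 := card_Fx_modEq hq h2 (V := ⊤) fun _ _ => trivial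
  have h5 := card_lt (V := Om hc 2) (W := Fx t) fun h5 =>
    ne_one_of_orderOf hq h2 (eq_one_of_Om hc h0 (pp Nat.prime_two hE ht) h5)
  have h6 := mul_card_le' h0 (le_top (a := Om hc 2)) (mem_top u) hu
  rw [inf_top_eq, card_top, h16] at h4
  rw [card_top, h16] at h6
  have h11 := dvd_32 ((card_subgroup_dvd_card (Fx t)).trans (h16 ▸ by decide))
  obtain ⟨v, hv, h12⟩ := exists_prime_mem (Fx t) Nat.prime_two (by unfold Nat.ModEq at h4; omega)
  have := one_lt_card (V := Fx t ⊓ Om hc 2) ⟨hv, h12 ▸ pow_orderOf_eq_one v⟩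
    (ne_one_of_orderOf Nat.prime_two h12)
  unfold Nat.ModEq at h3
  omega

/-- The statement from the heights in the abelian case. -/
theorem of_ab {G : Type*} [Group G] [Finite G] (M : Ideal AlgInt) (hM : IsPModular 2 M)
    (B : Set (IrrCharacter G)) (hB : IsPBlock M B) (D : Subgroup G) (hD : IsDefectGroup 2 M B D)
    (h16 : Nat.card D = 16) (χ : IrrCharacter G) (hχ : χ ∈ B)
    (hel : (∀ x ∈ D, x * x = 1) → blockHeight 2 B (χ : G → ℂ) = 0) :
    blockHeight 2 B (χ : G → ℂ) ≤ ((center D).index).factorization 2 ∧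
      (blockHeight 2 B (χ : G → ℂ) = ((center D).index).factorization 2 ↔ IsMulCommutative D) := by
  by_cases hab : IsMulCommutative D
  · have hc : ∀ x y : D, x * y = y * x := fun x y => hab.is_comm.comm x y
    have h1 : center D = ⊤ := eq_top_iff.2 fun z _ => mem_center_iff.2 fun g => hc g z
    have h2 : blockHeight 2 B (χ : G → ℂ) = 0 := by
      by_cases he : ∀ x ∈ D, x * x = 1
      · exact hel he
      · push Not at he
        obtain ⟨x, hx, hx1⟩ := he
        obtain ⟨e, h⟩ := exists_isMax_eB hM hB hD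
        have := Fintype.ofFinite G
        let b : BD 2 M D :=
          ⟨G, B, D.subtype, e, D.subtype_injective, hM, hB, by rwa [D.range_subtype]⟩
        exact ab_small b hc (card_aut_le_three hc h16 (u := ⟨x, hx⟩)
          (fun h3 => hx1 (by simpa [sq] using congrArg Subtype.val h3))
          (b.not_dvd_card_aut hc)) χ hχ
    simp [h1, h2, hab]
  · have h0 : IsPGroup 2 D := .of_card (n := 4) h16
    have hd : blockDefect 2 B = 4 :=
      Nat.pow_right_injective le_rfl ((card_defect hM hB hD).symm.trans h16)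
    have h1 : blockHeight 2 B (χ : G → ℂ) ≤ 2 := by
      by_cases h : blockHeight 2 B (χ : G → ℂ) = 0
      · omega
      · have := blockHeight_add_two_le hM hB hχ h
        omega
    obtain ⟨j, hj, h2⟩ := (Nat.dvd_prime_pow Nat.prime_two (m := 4)).1
      ((index_dvd_card (center D)).trans (h16 ▸ dvd_rfl))
    have h3 : 2 ≤ j := by
      by_contra h3
      have h4 : IsCyclic (D ⧸ center D) := by
        rcases (by omega : j = 0 ∨ j = 1) with rfl | rfl
        · have : Subsingleton (D ⧸ center D) := (Nat.card_eq_one_iff_unique.1 h2).1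
          infer_instance
        · exact isCyclic_of_prime_card (p := 2) h2
      exact hab ⟨⟨commutative_of_cyclic_center_quotient (QuotientGroup.mk' _)
        (QuotientGroup.ker_mk' _).le⟩⟩
    have h4 : blockHeight 2 B (χ : G → ℂ) < j := by
      rcases h3.eq_or_lt with rfl | h3
      · exact Nat.lt_succ_of_le (z4 M hM B hB D hD h16 χ hχ h2)
      · omega
    rw [h2, Nat.prime_two.factorization_pow, Finsupp.single_eq_same]
    exact ⟨h4.le, fun h => absurd h h4.ne, fun h => absurd h hab⟩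

theorem ne {G : Type*} [Group G] [Finite G] (M : Ideal AlgInt) (hM : IsPModular 2 M)
    (B : Set (IrrCharacter G)) (hB : IsPBlock M B) (D : Subgroup G) (hD : IsDefectGroup 2 M B D)
    (h16 : Nat.card D = 16) (χ : IrrCharacter G) (hχ : χ ∈ B) (hne : ¬ ∀ x ∈ D, x * x = 1) :
    blockHeight 2 B (χ : G → ℂ) ≤ ((center D).index).factorization 2 ∧
      (blockHeight 2 B (χ : G → ℂ) = ((center D).index).factorization 2 ↔ IsMulCommutative D) :=
  of_ab M hM B hB D hD h16 χ hχ fun h => absurd h hne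

end Cfsg.Lib.R16
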