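import Cfsg.Agent.R16.El0
import Cfsg.Agent.R16.Free0
import Cfsg.Agent.R16.Nine
import Cfsg.Agent.R16.K8
import Cfsg.Agent.R16.NE
import Cfsg.Agent.KKL.ThA

/-! Blocks with defect group of order sixteen, from the count for the elementary abelian group of
order eight. -/

set_option autoImplicit false

open Cfsg Cfsg.Lib.Char Cfsg.Lib.Block Cfsg.Lib.Block.BD Subgroup

namespace Cfsg.Lib.R16

universe v

theorem El1.free {M : Ideal AlgInt} {P : Type v} [Group P] (b : BD 2 M P) [Nontrivial P]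
    (he : ∀ x : P, x * x = 1) (hf : FreeAut b.aut) :
    ∀ χ ∈ b.B, blockHeight 2 b.B (χ : b.G → ℂ) = 0 := by
  have := b.finite
  refine Free0.main (abFree (grp_comm he) hf) D_ne_bot fun x _ h =>
    KKL.even_sum b.hM b.hB b.isDefectGroup D_ne_bot ?_ x fun g hg => ?_
  · rintro _ ⟨y, rfl⟩
    rw [← map_mul, he, map_one]
  · simpa using h g hg

theorem fin16 {G : Type v} [Group G] [Finite G] (M : Ideal AlgInt)
    (H : ∀ {S : Type v} [Group S] (c : BD 2 M S), Nat.card S = 8 → (∀ x : S, x * x = 1) →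
      ∀ u : S, u ≠ 1 → (∀ v, v ≠ 1 → c.ef u v) → c.k = 8)
    (hM : IsPModular 2 M) (B : Set (IrrCharacter G)) (hB : IsPBlock M B) (D : Subgroup G)
    (hD : IsDefectGroup 2 M B D) (h16 : Nat.card D = 16) (χ : IrrCharacter G) (hχ : χ ∈ B) :
    blockHeight 2 B (χ : G → ℂ) ≤ ((center D).index).factorization 2 ∧
      (blockHeight 2 B (χ : G → ℂ) = ((center D).index).factorization 2 ↔ IsMulCommutative D) :=
  of_ab M hM B hB D hD h16 χ hχ (el_of M (fun b h he =>
    have := b.finite
    have := Finite.one_lt_card_iff_nontrivial.1 (lt_of_lt_of_eq (by decide) h.symm)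
    elb (fun c h8 hs => k8 c h8 hs (H c h8 hs)) b h he (El1.free b he)
      fun _ _ _ _ _ g => nine g he) hM B hB D hD h16 χ hχ)

end Cfsg.Lib.R16
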