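import Cfsg.Agent.R16.Fix
import Cfsg.Agent.R16.Nine
import Cfsg.Agent.R16.Free0
import Cfsg.Agent.KKL.ThA
import Cfsg.Agent.R16.NE

/-!
Elementary abelian defect group of order `16`: reduction to the defect group of order `8`.
-/

set_option autoImplicit false

open Cfsg Cfsg.Lib.Char Cfsg.Lib.Block Cfsg.Lib.Block.BD Cfsg.Lib.Block.AG Subgroup

namespace Cfsg.Lib.R16

universe u
variable {M : Ideal AlgInt} {P : Type u} [Group P]

theorem freeK (b : BD 2 M P) (he : ∀ x : P, x * x = 1) [Nontrivial P] (hf : FreeAut b.aut) :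
    ∀ χ ∈ b.B, blockHeight 2 b.B (χ : b.G → ℂ) = 0 :=
  Free0.main (BD.abFree (grp_comm he) hf) BD.D_ne_bot fun x _ h0 =>
    KKL.even_sum b.hM b.hB b.isDefectGroup BD.D_ne_bot
      (by rintro _ ⟨y, rfl⟩; rw [← map_mul, he, map_one]) x fun g hg => by
        simpa [Finset.sum_apply] using h0 g hg

theorem elK (kkl : ∀ {S : Type u} [Group S] (c : BD 2 M S), Nat.card S = 8 →
      (∀ x : S, x * x = 1) → c.k = 8)
    (b : BD 2 M P) (h16 : Nat.card P = 16) (he : ∀ x : P, x * x = 1) :
    ∀ χ ∈ b.B, blockHeight 2 b.B (χ : b.G → ℂ) = 0 := by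
  have := b.finite
  have hc := grp_comm he
  have : Nontrivial P := Finite.one_lt_card_iff_nontrivial.1 (by omega)
  rcases tri h16 b.aut (b.not_dvd_card_aut hc) with ⟨u, hu, hf⟩ | ⟨-, hf⟩ | ⟨h9, hf⟩
  · exact fixed kkl b h16 he hu hf
  · exact freeK b he hf
  · obtain ⟨V, W, v, w, a1, a2, a3, a4, a5, a6, a7, a8, a9, a10⟩ := grid_nine h16 h9 hc hf
    exact nine ⟨hc, a10, h16, a1, a2, a3, fun x => (ef_iff hc).trans (a4 x),
      fun x => (ef_iff hc).trans (a5 x), fun x => (ef_iff hc).trans (a6 x),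
      (rk_eq_of_le_three hc a7.le).trans a7, (rk_eq_of_le_three hc a8.le).trans a8,
      (rk_eq_of_le_three hc (a9.le.trans (by decide))).trans a9⟩ he

/-- The whole statement, from the count for elementary abelian defect groups of order eight. -/
theorem allK (kkl : ∀ {S : Type u} [Group S] (c : BD 2 M S), Nat.card S = 8 →
      (∀ x : S, x * x = 1) → c.k = 8)
    {G : Type u} [Group G] [Finite G] (hM : IsPModular 2 M)
    (B : Set (IrrCharacter G)) (hB : IsPBlock M B) (D : Subgroup G) (hD : IsDefectGroup 2 M B D)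
    (h16 : Nat.card D = 16) (χ : IrrCharacter G) (hχ : χ ∈ B) :
    blockHeight 2 B (χ : G → ℂ) ≤ ((center D).index).factorization 2 ∧
      (blockHeight 2 B (χ : G → ℂ) = ((center D).index).factorization 2 ↔ IsMulCommutative D) := by
  refine of_ab M hM B hB D hD h16 χ hχ fun he => ?_
  obtain ⟨e, h⟩ := exists_isMax_eB hM hB hD
  have := Fintype.ofFinite G
  exact elK kkl (P := D) ⟨G, B, D.subtype, e, D.subtype_injective, hM, hB,
    by rwa [D.range_subtype]⟩ h16 (fun x => Subtype.ext (he x x.2)) χ hχ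

end Cfsg.Lib.R16
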