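import Cfsg.Agent.Block.BDAb
import Cfsg.Agent.KKL.ThA

/-!
The even Cartan lemma in terms of contribution matrices.
-/

set_option autoImplicit false

open Cfsg Cfsg.Lib.Char Cfsg.Lib.Block Cfsg.Lib.Block.Star

namespace Cfsg.Lib.R16

universe u
variable {M : Ideal AlgInt} {P : Type u} [Group P]

theorem evA_one (b : BD 2 M P) [Fintype P] [DecidableEq P] :
    (1 : P → ℂ) = b.dlt 1 + ∑ u ∈ Finset.univ.erase (1 : P), (∑ y, b.dlt u y)⁻¹ • b.dlt u := by
  classical
  funext x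
  simp only [Pi.add_apply, Finset.sum_apply, Pi.smul_apply, smul_eq_mul, Pi.one_apply]
  by_cases hx : x = 1
  · subst hx
    rw [Finset.sum_eq_zero fun u hu => by
      rw [BD.dlt, if_neg fun h => (Finset.mem_erase.1 hu).1 h.symm.eq_one, mul_zero]]
    simp [BD.dlt, b.ef_refl]
  · have h1 : ∀ u, (∑ y, b.dlt u y)⁻¹ * b.dlt u x = (∑ y, b.dlt x y)⁻¹ * b.dlt x u := fun u => by
      by_cases h : b.ef u x
      · have h2 : b.dlt u = b.dlt x := funext fun y => by
          rw [BD.dlt, BD.dlt, propext ⟨fun h' : b.ef u y => h.symm.trans h', h.trans⟩]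
        rw [h2, BD.st_dlt x u x h]
      · simp [BD.dlt, h, show ¬ b.ef x u from fun h' => h h'.symm]
    have h3 : b.dlt x 1 = 0 := if_neg fun h => hx h.symm.eq_one
    have h4 : b.dlt 1 x = 0 := if_neg fun h => hx h.eq_one
    have h5 : ∑ y, b.dlt x y ≠ 0 := by
      simp only [BD.dlt, Finset.sum_boole, Nat.cast_ne_zero, Finset.card_ne_zero]
      exact ⟨x, by simp [b.ef_refl]⟩
    simp only [h1]
    rw [← Finset.mul_sum, Finset.sum_erase _ h3, h4, zero_add, inv_mul_cancel₀ h5]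

theorem evA_mat_sum (b : BD 2 M P) {ι : Type*} (s : Finset ι) (l : ι → P → ℂ)
    (χ ψ : IrrCharacter b.G) : b.mat (∑ i ∈ s, l i) χ ψ = ∑ i ∈ s, b.mat (l i) χ ψ := by
  classical
  induction s using Finset.induction_on with
  | empty => simpa using BD.mat_smul (b := b) 0 0 χ ψ
  | insert x s hx ih => rw [Finset.sum_insert hx, Finset.sum_insert hx, BD.mat_add, ih]

theorem evA (b : BD 2 M P) (he : ∀ x : P, x * x = 1) [Nontrivial P] (a : IrrCharacter b.G → ℤ)
    (ha : ∀ u : P, u ≠ 1 → ∀ ψ, ∑ χ ∈ irrFin b.B, (a χ : ℂ) * b.mat (b.dlt u) χ ψ = 0) :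
    Even (∑ χ ∈ irrFin b.B, a χ) := by
  classical
  have := b.finite
  have := Fintype.ofFinite P
  refine KKL.even_sum b.hM b.hB b.isDefectGroup (fun h => ?_) ?_ a fun g hg => ?_
  · obtain ⟨x, hx⟩ := exists_ne (1 : P)
    have := b.mem x
    rw [h, Subgroup.mem_bot] at this
    exact hx (b.inj (this.trans (map_one _).symm))
  · rintro _ ⟨x, rfl⟩
    rw [← map_mul, he, map_one]
  have h1 : ∀ χ ∈ irrFin b.B, ∀ ψ, b.mat (b.dlt 1) χ ψ =
      classInner (pRegularPart 2 (χ : b.G → ℂ)) (ψ : b.G → ℂ) := fun χ hχ ψ => by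
    rw [BD.mat_dl (u := 1) (l := b.dlt 1) (fun v hv => if_pos hv) (fun v hv => if_neg hv), ctr, BD.coe_eqv,
      map_one, star_dl_one b.hM b.hB b.max (inSpan_irr (mem_irrFin.1 hχ))]
  have h2 : ∀ χ ∈ irrFin b.B, ∀ ψ : IrrCharacter b.G, b.mat 1 χ ψ =
      classInner (χ : b.G → ℂ) (ψ : b.G → ℂ) := fun χ hχ ψ => by
    rw [BD.mat_one (mem_irrFin.1 hχ)]
    convert (classInner_irr χ ψ).symm
  have h3 : ∀ ψ : IrrCharacter b.G,
      classInner (∑ χ ∈ irrFin b.B, (a χ : ℂ) • (χ : b.G → ℂ)) (ψ : b.G → ℂ) =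
      classInner (∑ χ ∈ irrFin b.B, (a χ : ℂ) • pRegularPart 2 (χ : b.G → ℂ)) (ψ : b.G → ℂ) := by
    intro ψ
    simp only [classInner_sum_left, classInner_smul_left]
    rw [← Finset.sum_congr rfl fun χ hχ => congrArg ((a χ : ℂ) * ·) (h1 χ hχ ψ),
      ← Finset.sum_congr rfl fun χ hχ => congrArg ((a χ : ℂ) * ·) (h2 χ hχ ψ), evA_one b]
    simp only [BD.mat_add, evA_mat_sum, BD.mat_smul, mul_add, Finset.sum_add_distrib,
      Finset.mul_sum, mul_left_comm (a _ : ℂ)]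
    rw [Finset.sum_comm, add_eq_left]
    refine Finset.sum_eq_zero fun u hu => ?_
    rw [← Finset.mul_sum, ha u (Finset.mem_erase.1 hu).1, mul_zero]
  have h4 := congrFun (IsClassFunction.ext_classInner_irr
    (isClassFunction_sum _ fun χ _ => χ.2.isClassFunction.smul _)
    (isClassFunction_sum _ fun χ _ => (isClassFunction_pRegularPart 2 χ.2.isClassFunction).smul _)
    fun ψ hψ => h3 ⟨ψ, hψ⟩) g
  simpa only [Finset.sum_apply, Pi.smul_apply, smul_eq_mul, pRegularPart_of_dvd 2 _ hg, mul_zero,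
    Finset.sum_const_zero] using h4

end Cfsg.Lib.R16
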