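import Mathlib

set_option autoImplicit false
open Matrix

namespace Cfsg.Lib.R16

theorem NineM.par {ι : Type*} [Fintype ι] [DecidableEq ι] (A : Matrix ι ι ℤ) (d z : ι → ℤ)
    (sy : ∀ i j, A i j = A j i) (a2 : A * A = 4 • A) (ad : ∀ i, ∑ j, A i j * d j = 4 * d i)
    (hz : ∀ i, (d i = 2 * z i ∧ z i ^ 2 = 1) ∨ (Odd (d i) ∧ z i = 0)) (i : ι) :
    ∃ x, ∑ j, A i j * z j = 2 * x := by
  have e1 : ∑ j, A i j * A i j = 4 * A i i := by
    have := congrFun (congrFun a2 i) i
    simp only [Matrix.mul_apply, Matrix.smul_apply, nsmul_eq_mul, Nat.cast_ofNat] at this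
    rw [← this]
    exact Finset.sum_congr rfl fun j _ => by rw [sy j i]
  have e3 : (2 : ℤ) ∣ ∑ j, (A i j * z j - A i j * A i j + A i j * d j) :=
    Finset.dvd_sum fun j _ => by
      obtain ⟨t, ht⟩ := Int.even_mul_pred_self (A i j)
      rcases hz j with ⟨h1, h2⟩ | ⟨⟨k, h1⟩, h2⟩
      · rcases sq_eq_one_iff.1 h2 with h | h
        · exact ⟨A i j - t, by rw [h1, h]; linear_combination (-1 : ℤ) * ht⟩
        · exact ⟨-2 * A i j - t, by rw [h1, h]; linear_combination (-1 : ℤ) * ht⟩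
      · exact ⟨A i j * k - t, by rw [h1, h2]; linear_combination (-1 : ℤ) * ht⟩
  rw [Finset.sum_add_distrib, Finset.sum_sub_distrib, e1, ad] at e3
  obtain ⟨c, hc⟩ := e3
  exact ⟨c + 2 * A i i - 2 * d i, by linear_combination hc⟩

theorem NineM.eq {ι : Type*} [Fintype ι] [DecidableEq ι] (d z y : ι → ℤ)
    (hz : ∀ i, (d i = 2 * z i ∧ z i ^ 2 = 1) ∨ (Odd (d i) ∧ z i = 0))
    (hm : ∑ i, z i ^ 2 = 1 ∨ ∀ i, z i = 0 → d i ^ 2 = 1)
    (h1 : ∑ i, y i ^ 2 = ∑ i, z i ^ 2) (h2 : ∑ i, d i * y i = 2 * ∑ i, z i ^ 2) : y = z := by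
  have key : ∀ i, z i = 0 → 0 ≤ y i ^ 2 - d i * y i := by
    rcases hm with hm | hm
    · intro i hi
      by_cases hy : y i = 0
      · simp [hy]
      · exfalso
        have o : ∀ j, j ≠ i → y j = 0 := fun j hj => by
          have := Finset.add_sum_erase Finset.univ (fun i => y i ^ 2) (Finset.mem_univ i)
          have l := Finset.single_le_sum (f := fun i => y i ^ 2) (s := Finset.univ.erase i)
            (fun k _ => sq_nonneg _) (Finset.mem_erase.2 ⟨hj, Finset.mem_univ j⟩)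
          have p : 0 < y i ^ 2 := by positivity
          have : y j ^ 2 ≤ 0 := by omega
          exact pow_eq_zero_iff (two_ne_zero) |>.1 (le_antisymm this (sq_nonneg _))
        rw [Finset.sum_eq_single i (fun j _ hj => by simp [o j hj]) (by simp), hm] at h1 h2
        rcases hz i with ⟨-, e⟩ | ⟨⟨k, e⟩, -⟩
        · rw [hi] at e; norm_num at e
        · rw [e] at h2
          rcases sq_eq_one_iff.1 h1 with h | h <;> rw [h] at h2 <;> omega
    · intro i hi
      rcases sq_eq_one_iff.1 (hm i hi) with h | h <;> rw [h]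
      · nlinarith [Int.le_self_sq (y i)]
      · nlinarith [Int.le_self_sq (-y i)]
  have nn : ∀ i ∈ (Finset.univ : Finset ι), 0 ≤ y i ^ 2 - d i * y i + z i ^ 2 := fun i _ => by
    rcases hz i with ⟨e, -⟩ | ⟨-, e⟩
    · rw [e]; nlinarith [sq_nonneg (y i - z i)]
    · have := key i e; rw [e]; linarith
  have s0 : ∑ i, (y i ^ 2 - d i * y i + z i ^ 2) = 0 := by
    rw [Finset.sum_add_distrib, Finset.sum_sub_distrib, h1, h2]; ring
  have z0 := (Finset.sum_eq_zero_iff_of_nonneg nn).1 s0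
  have eE : ∀ i, d i = 2 * z i → y i = z i := fun i e => by
    have := z0 i (Finset.mem_univ i)
    rw [e] at this
    have : (y i - z i) ^ 2 = 0 := by linear_combination this
    have := pow_eq_zero_iff (two_ne_zero) |>.1 this
    linarith
  have nn' : ∀ i ∈ (Finset.univ : Finset ι), 0 ≤ y i ^ 2 - z i ^ 2 := fun i _ => by
    rcases hz i with ⟨e, -⟩ | ⟨-, e⟩
    · rw [eE i e]; simp
    · rw [e]; nlinarith [sq_nonneg (y i)]
  have s1 : ∑ i, (y i ^ 2 - z i ^ 2) = 0 := by rw [Finset.sum_sub_distrib, h1]; ring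
  have z1 := (Finset.sum_eq_zero_iff_of_nonneg nn').1 s1
  funext i
  rcases hz i with ⟨e, -⟩ | ⟨-, e⟩
  · exact eE i e
  · have := z1 i (Finset.mem_univ i)
    rw [e] at this ⊢
    exact pow_eq_zero_iff (two_ne_zero) |>.1 (by linear_combination this)

theorem NineM.half {ι : Type*} [Fintype ι] [DecidableEq ι] (A : Matrix ι ι ℤ) (d z : ι → ℤ)
    (hA : A.transpose = A) (a2 : A * A = 4 • A) (ad : A *ᵥ d = 4 • d)
    (hz : ∀ i, (d i = 2 * z i ∧ z i ^ 2 = 1) ∨ (Odd (d i) ∧ z i = 0))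
    (hm : ∑ i, z i ^ 2 = 1 ∨ ∀ i, z i = 0 → d i ^ 2 = 1) : A *ᵥ z = 4 • z := by
  have sy : ∀ i j, A i j = A j i := fun i j => by
    conv_lhs => rw [← hA]
    rfl
  have ad' : ∀ i, ∑ j, A i j * d j = 4 * d i := fun i => by
    simpa [Matrix.mulVec, dotProduct] using congrFun ad i
  choose x hx using NineM.par A d z sy a2 ad' hz
  have ax : A *ᵥ z = 2 • x := funext fun i => by simpa [Matrix.mulVec, dotProduct] using hx i
  have sw : ∀ u v : ι → ℤ, (A *ᵥ u) ⬝ᵥ v = u ⬝ᵥ (A *ᵥ v) := fun u v => by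
    rw [Matrix.dotProduct_mulVec, ← Matrix.mulVec_transpose, hA]
  have e1 : x ⬝ᵥ x = 2 * (z ⬝ᵥ x) := by
    have := sw z (A *ᵥ z)
    rw [Matrix.mulVec_mulVec, a2, Matrix.smul_mulVec, ax] at this
    simp only [smul_dotProduct, dotProduct_smul] at this
    simp only [nsmul_eq_mul, Nat.cast_ofNat] at this
    linarith
  have dz : d ⬝ᵥ z = 2 * ∑ i, z i ^ 2 := by
    rw [Finset.mul_sum]
    exact Finset.sum_congr rfl fun i _ => by
      rcases hz i with ⟨e, -⟩ | ⟨-, e⟩ <;> rw [e] <;> ring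
  have e2 : d ⬝ᵥ x = 4 * ∑ i, z i ^ 2 := by
    have := sw d z
    rw [ad, ax] at this
    simp only [smul_dotProduct, dotProduct_smul] at this
    simp only [nsmul_eq_mul, Nat.cast_ofNat] at this
    linarith
  have := NineM.eq d z (x - z) hz hm (by
    have : ∑ i, (x - z) i ^ 2 = x ⬝ᵥ x - 2 * (z ⬝ᵥ x) + ∑ i, z i ^ 2 := by
      simp only [dotProduct, Finset.mul_sum, ← Finset.sum_sub_distrib, ← Finset.sum_add_distrib]
      exact Finset.sum_congr rfl fun i _ => by simp only [Pi.sub_apply]; ring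
    rw [this, e1]; ring) (by
    have : ∑ i, d i * (x - z) i = d ⬝ᵥ x - d ⬝ᵥ z := by rw [← dotProduct_sub]; rfl
    rw [this, e2, dz]; ring)
  rw [ax, eq_add_of_sub_eq this]
  funext i
  simp only [Pi.smul_apply, Pi.add_apply, nsmul_eq_mul, Nat.cast_ofNat]
  ring

theorem NineM.fix {ι : Type*} [Fintype ι] [DecidableEq ι] (A B : Matrix ι ι ℤ) (d : ι → ℤ)
    (a2 : A * A = 4 • A) (ab : ∀ i j, (A * B) i j = d i * d j) {j : ι} (h0 : d j ≠ 0) :
    A *ᵥ d = 4 • d := by
  funext i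
  have : (A * (A * B)) i j = (4 • (A * B)) i j := by
    rw [← Matrix.mul_assoc, a2, Matrix.smul_mul]
  rw [Matrix.mul_apply] at this
  simp only [ab, Matrix.smul_apply, nsmul_eq_mul, Nat.cast_ofNat, ← mul_assoc,
    ← Finset.sum_mul] at this
  simpa [Matrix.mulVec, dotProduct] using mul_right_cancel₀ h0 this

theorem nineM {ι : Type*} [Fintype ι] [DecidableEq ι] (A B : Matrix ι ι ℤ) (d : ι → ℤ)
    (hA : A.transpose = A) (hB : B.transpose = B) (a2 : A * A = 4 • A) (b2 : B * B = 4 • B)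
    (ab : ∀ i j, (A * B) i j = d i * d j) (h16 : ∑ i, d i ^ 2 = 16) (h0 : ∀ i, d i ≠ 0)
    (ho : ∃ i, Odd (d i)) : ∀ i, Odd (d i) := by
  obtain ⟨o, ho⟩ := ho
  intro a
  by_contra ha
  have ba : ∀ i j, (B * A) i j = d i * d j := fun i j => by
    have : B * A = (A * B).transpose := by rw [Matrix.transpose_mul, hA, hB]
    rw [this, Matrix.transpose_apply, ab, mul_comm]
  have po : ∀ i, Odd (d i) → 1 ≤ d i ^ 2 := fun i _ => by
    have := h0 i
    exact Int.lt_iff_add_one_le.1 (by positivity : 0 < d i ^ 2)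
  let z : ι → ℤ := fun i => if Odd (d i) then 0 else d i / 2
  have hz : ∀ i, (d i = 2 * z i ∧ z i ^ 2 = 1) ∨ (Odd (d i) ∧ z i = 0) := fun i => by
    by_cases h : Odd (d i)
    · exact .inr ⟨h, if_pos h⟩
    · left
      have ne : i ≠ o := fun e => h (e ▸ ho)
      have l := Finset.sum_le_sum_of_subset_of_nonneg (f := fun i => d i ^ 2)
        (Finset.subset_univ {i, o}) (fun k _ _ => sq_nonneg _)
      rw [Finset.sum_pair ne, h16] at l
      obtain ⟨k, hk⟩ := Int.not_odd_iff_even.1 h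
      have zk : z i = k := by simp only [z, if_neg h]; omega
      have := po o ho
      have k0 : k ≠ 0 := fun e => h0 i (by omega)
      rw [hk] at l
      rw [zk]
      refine ⟨by omega, ?_⟩
      have : k < 2 := by nlinarith
      have : -2 < k := by nlinarith
      interval_cases k <;> simp_all
  have nn : ∀ i ∈ (Finset.univ : Finset ι), 0 ≤ d i ^ 2 - 4 * z i ^ 2 := fun i _ => by
    rcases hz i with ⟨e, -⟩ | ⟨-, e⟩ <;> rw [e] <;> nlinarith [sq_nonneg (d i)]
  have le : ∀ i, z i = 0 → d i ^ 2 ≤ 16 - 4 * ∑ i, z i ^ 2 := fun i hi => by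
    have := Finset.single_le_sum nn (Finset.mem_univ i)
    rw [Finset.sum_sub_distrib, h16, ← Finset.mul_sum, hi] at this
    linarith
  have m1 : 1 ≤ ∑ i, z i ^ 2 := by
    have := Finset.single_le_sum (f := fun i => z i ^ 2) (fun k _ => sq_nonneg _)
      (Finset.mem_univ a)
    rcases hz a with ⟨-, e⟩ | ⟨e, -⟩
    · simp only [e] at this; exact this
    · exact absurd e ha
  have hm : ∑ i, z i ^ 2 = 1 ∨ ∀ i, z i = 0 → d i ^ 2 = 1 := by
    by_cases h : ∑ i, z i ^ 2 = 1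
    · exact .inl h
    · refine .inr fun i hi => ?_
      have l := le i hi
      rcases hz i with ⟨-, e⟩ | ⟨⟨k, e⟩, -⟩
      · rw [hi] at e; norm_num at e
      · have l' : d i ^ 2 ≤ 8 := by omega
        rw [e] at l' ⊢
        have : k < 1 := by nlinarith
        have : -2 < k := by nlinarith
        interval_cases k <;> norm_num
  have e1 := NineM.half A d z hA a2 (NineM.fix A B d a2 ab (h0 o)) hz hm
  have e2 := NineM.half B d z hB b2 (NineM.fix B A d b2 ba (h0 o)) hz hm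
  have dz : ∑ i, d i * z i = 2 * ∑ i, z i ^ 2 := by
    rw [Finset.mul_sum]
    exact Finset.sum_congr rfl fun i _ => by
      rcases hz i with ⟨e, -⟩ | ⟨-, e⟩ <;> rw [e] <;> ring
  have e3 : 16 * z a = d a * (2 * ∑ i, z i ^ 2) := by
    have e3 := congrFun (Matrix.mulVec_mulVec z A B) a
    rw [e2, Matrix.mulVec_smul, e1] at e3
    have e4 : ((A * B) *ᵥ z) a = d a * (2 * ∑ i, z i ^ 2) := by
      rw [← dz, Finset.mul_sum]
      exact Finset.sum_congr rfl fun i _ => by rw [← mul_assoc, ← ab]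
    rw [← e4, ← e3, Pi.smul_apply, Pi.smul_apply, nsmul_eq_mul, nsmul_eq_mul]
    push_cast
    ring
  generalize ∑ i, z i ^ 2 = m at e3 le m1
  have lo := le o (if_pos ho)
  have := po o ho
  rcases hz a with ⟨e, e'⟩ | ⟨e, -⟩
  · rw [e] at e3
    rcases sq_eq_one_iff.1 e' with h | h <;> rw [h] at e3 <;> omega
  · exact ha e

end Cfsg.Lib.R16
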