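import Cfsg.Agent.Block.BDInt

/-! Two commuting integral projections with a product of rank one: all entries are odd. -/

set_option autoImplicit false

open Finset Cfsg.Lib.Block

namespace Cfsg.Lib.R16.NineZ

variable {ι : Type*} {S : Finset ι} {N N' : ι → ι → ℤ} {d : ι → ℤ}

theorem par (h : QInt.Proj S N d) {a : ι} (ha : a ∈ S) (s : ι → ℤ)
    (hs : ∀ z ∈ S, Even (s z + d z + 1)) : Even (∑ z ∈ S, N a z * s z) := by
  have h1 := h.sq a ha a ha
  have h2 := h.fix a ha
  have h3 : Even (∑ z ∈ S, (N a z * s z + N a z * d z + N a z * N z a)) := by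
    refine even_sum _ fun z hz => ?_
    rw [← h.symm a z]
    obtain ⟨c, hc⟩ := hs z hz
    obtain ⟨e, he⟩ := Int.even_mul_pred_self (N a z)
    exact ⟨N a z * c + e, by linear_combination N a z * hc + he⟩
  rw [sum_add_distrib, sum_add_distrib, h1, h2] at h3
  obtain ⟨c, hc⟩ := h3
  exact ⟨c - 2 * d a - 2 * N a a, by linear_combination hc⟩

theorem eig (h : QInt.Proj S N d) (h0 : ∀ a ∈ S, d a ≠ 0) (h2 : ∀ a ∈ S, d a ^ 2 ≤ 4)
    (s : ι → ℤ) (hs : ∀ z ∈ S, (d z ^ 2 = 4 ∧ d z = 2 * s z) ∨ (d z ^ 2 = 1 ∧ s z = 0)) :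
    ∀ a ∈ S, ∑ z ∈ S, N a z * s z = 4 * s a := by
  have hp : ∀ z ∈ S, Even (s z + d z + 1) := fun z hz => by
    rcases hs z hz with ⟨e1, e2⟩ | ⟨e1, e2⟩
    · have : (s z - 1) * (s z + 1) = 0 := by rw [e2] at e1; nlinarith
      rcases mul_eq_zero.1 this with e | e
      · exact ⟨2, by omega⟩
      · exact ⟨-1, by omega⟩
    · have : (d z - 1) * (d z + 1) = 0 := by nlinarith
      rcases mul_eq_zero.1 this with e | e
      · exact ⟨1, by omega⟩
      · exact ⟨0, by omega⟩
  have hx : ∀ a, ∃ t : ℤ, a ∈ S → ∑ z ∈ S, N a z * s z = 2 * t + 2 * s a := fun a => by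
    by_cases ha : a ∈ S
    · obtain ⟨c, hc⟩ := par h ha s hp
      exact ⟨c - s a, fun _ => by linear_combination hc⟩
    · exact ⟨0, fun h => absurd h ha⟩
  choose t ht using hx
  have e1 : ∑ a ∈ S, (∑ z ∈ S, N a z * s z) * (∑ z ∈ S, N a z * s z) =
      4 * ∑ a ∈ S, (∑ z ∈ S, N a z * s z) * s a := by
    have : ∀ y ∈ S, ∀ z ∈ S, ∑ a ∈ S, N a y * s y * (N a z * s z) = 4 * (N y z * s z * s y) :=
      fun y hy z hz => by
        have := h.sq y hy z hz
        rw [sum_congr rfl (g := fun a => s y * s z * (N y a * N a z)) fun a _ => by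
          rw [h.symm a y]; ring, ← mul_sum, this]
        ring
    simp only [sum_mul_sum]
    rw [sum_comm, mul_sum]
    refine sum_congr rfl fun y hy => ?_
    rw [sum_comm, sum_mul, mul_sum]
    exact sum_congr rfl fun z hz => this y hy z hz
  have e2 : ∑ a ∈ S, (∑ z ∈ S, N a z * s z) * d a = 4 * ∑ a ∈ S, s a * d a := by
    simp only [sum_mul]
    rw [sum_comm, mul_sum]
    refine sum_congr rfl fun z hz => ?_
    rw [sum_congr rfl (g := fun a => s z * (N z a * d a)) fun a _ => by rw [h.symm a z]; ring,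
      ← mul_sum, h.fix z hz]
    ring
  rw [sum_congr rfl fun a ha => by rw [ht a ha]] at e1 e2
  rw [sum_congr rfl (f := fun a => (∑ z ∈ S, N a z * s z) * s a) fun a ha => by rw [ht a ha]] at e1
  have e3 : ∑ a ∈ S, (2 * t a ^ 2 - t a * d a - (2 * s a ^ 2 - s a * d a)) = 0 := by
    have f1 : ∑ a ∈ S, ((2 * t a + 2 * s a) * (2 * t a + 2 * s a) -
        4 * ((2 * t a + 2 * s a) * s a)) = 0 := by rw [sum_sub_distrib, ← mul_sum, e1, sub_self]
    have f2 : ∑ a ∈ S, ((2 * t a + 2 * s a) * d a - 4 * (s a * d a)) = 0 := by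
      rw [sum_sub_distrib, ← mul_sum, e2, sub_self]
    have f3 : 2 * ∑ a ∈ S, (2 * t a ^ 2 - t a * d a - (2 * s a ^ 2 - s a * d a)) = 0 := by
      rw [mul_sum, ← sub_eq_zero.2 (f1.trans f2.symm), ← sum_sub_distrib]
      exact sum_congr rfl fun a _ => by ring
    omega
  have e4 : ∑ a ∈ S, (s a ^ 2 - t a ^ 2) = 0 := by
    have f1 : ∑ a ∈ S, ((2 * t a + 2 * s a) * (2 * t a + 2 * s a) -
        4 * ((2 * t a + 2 * s a) * s a)) = 0 := by rw [sum_sub_distrib, ← mul_sum, e1, sub_self]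
    have f3 : -4 * ∑ a ∈ S, (s a ^ 2 - t a ^ 2) = 0 := by
      rw [mul_sum, ← f1]
      exact sum_congr rfl fun a _ => by ring
    omega
  have k1 : ∀ a ∈ S, 0 ≤ 2 * t a ^ 2 - t a * d a - (2 * s a ^ 2 - s a * d a) ∧
      (2 * t a ^ 2 - t a * d a - (2 * s a ^ 2 - s a * d a) = 0 → t a = 0 ∨ t a = s a) :=
    fun a ha => by
      rcases hs a ha with ⟨c1, c2⟩ | ⟨c1, c2⟩
      · have : (s a - 1) * (s a + 1) = 0 := by rw [c2] at c1; nlinarith
        rw [c2]
        refine ⟨?_, fun e => ?_⟩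
        · rcases mul_eq_zero.1 this with e | e
          · rw [show s a = 1 by omega]
            rcases le_or_gt (t a) 0 with g | g <;> nlinarith
          · rw [show s a = -1 by omega]
            rcases le_or_gt 0 (t a) with g | g <;> nlinarith
        · have : t a * (t a - s a) = 0 := by nlinarith
          rcases mul_eq_zero.1 this with e | e
          · exact Or.inl e
          · exact Or.inr (by omega)
      · have : (d a - 1) * (d a + 1) = 0 := by nlinarith
        rw [c2]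
        rcases mul_eq_zero.1 this with e | e
        · rw [show d a = 1 by omega]
          refine ⟨by rcases le_or_gt (t a) 0 with g | g <;> nlinarith, fun e => Or.inl ?_⟩
          have : t a * (2 * t a - 1) = 0 := by nlinarith
          rcases mul_eq_zero.1 this with e | e <;> omega
        · rw [show d a = -1 by omega]
          refine ⟨by rcases le_or_gt 0 (t a) with g | g <;> nlinarith, fun e => Or.inl ?_⟩
          have : t a * (2 * t a + 1) = 0 := by nlinarith
          rcases mul_eq_zero.1 this with e | e <;> omega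
  have k2 : ∀ a ∈ S, t a = 0 ∨ t a = s a := fun a ha =>
    (k1 a ha).2 ((sum_eq_zero_iff_of_nonneg fun a ha => (k1 a ha).1).1 e3 a ha)
  have k3 : ∀ a ∈ S, s a ^ 2 - t a ^ 2 = 0 :=
    (sum_eq_zero_iff_of_nonneg fun a ha => by
      rcases k2 a ha with e | e <;> rw [e] <;> nlinarith [sq_nonneg (s a)]).1 e4
  intro a ha
  rw [ht a ha]
  rcases k2 a ha with e | e
  · have := k3 a ha
    rw [e] at this ⊢
    have : s a = 0 := by nlinarith
    omega
  · omega

theorem odd (h : QInt.Proj S N d) (h' : QInt.Proj S N' d) (hd : ∑ a ∈ S, d a ^ 2 = 16)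
    (h0 : ∀ a ∈ S, d a ≠ 0) (h1 : ∀ a ∈ S, 4 * N a a + 4 * N' a a < 16 + d a ^ 2)
    (hN : ∀ a ∈ S, ∀ b ∈ S, ∑ c ∈ S, N a c * N' c b = d a * d b) : ∀ a ∈ S, Odd (d a) := by
  classical
  intro x hx
  rw [← Int.not_even_iff_odd]
  rintro ⟨c, hc⟩
  have p1 : ∀ a ∈ S, 1 ≤ d a ^ 2 := fun a ha => by
    have := sq_pos_of_ne_zero (h0 a ha); omega
  have hk : (8 : ℤ) ≤ S.card := by
    have : ∑ a ∈ S, (4 * N a a + 4 * N' a a) ≤ ∑ a ∈ S, (15 + d a ^ 2) :=
      sum_le_sum fun a ha => by have := h1 a ha; omega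
    rw [sum_add_distrib, sum_add_distrib, ← mul_sum, ← mul_sum, h.tr, h'.tr, hd, sum_const,
      nsmul_eq_mul] at this
    omega
  have hs : ∑ a ∈ S, (d a ^ 2 - 1) ≤ 8 := by
    rw [sum_sub_distrib, hd, sum_const, nsmul_eq_mul]; omega
  have x4 : 4 ≤ d x ^ 2 := by
    have : c ≠ 0 := fun e => h0 x hx (by omega)
    have := sq_pos_of_ne_zero this
    rw [hc]; nlinarith
  have h2 : ∀ a ∈ S, d a ^ 2 ≤ 4 := fun a ha => by
    by_contra hn
    have a9 : 9 ≤ d a ^ 2 := by
      by_contra hm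
      have : d a ≤ 2 := by nlinarith
      have : -2 ≤ d a := by nlinarith
      nlinarith
    by_cases e : a = x
    · have := single_le_sum (f := fun a => d a ^ 2 - 1) (fun a ha => by
        have := p1 a ha; omega) ha
      have g : d a ^ 2 = 9 := by omega
      rw [e, hc] at g
      have : 4 * c ^ 2 = 9 := by linarith
      omega
    · have := sum_le_sum_of_subset_of_nonneg (f := fun a => d a ^ 2 - 1) (s := {a, x}) (t := S)
        (by rw [insert_subset_iff, singleton_subset_iff]; exact ⟨ha, hx⟩) (fun a ha _ => by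
          have := p1 a ha; omega)
      rw [sum_pair e] at this
      omega
  let s : ι → ℤ := fun z => if d z ^ 2 = 4 then d z / 2 else 0
  have hs' : ∀ z ∈ S, (d z ^ 2 = 4 ∧ d z = 2 * s z) ∨ (d z ^ 2 = 1 ∧ s z = 0) := fun z hz => by
    have a1 := h2 z hz
    have a2 := h0 z hz
    have : d z ≤ 2 := by nlinarith
    have : -2 ≤ d z := by nlinarith
    simp only [s]
    generalize d z = y at *
    interval_cases y <;> simp_all
  have g1 := eig h h0 h2 s hs'
  have g2 := eig h' h0 h2 s hs'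
  have g3 : ∀ a ∈ S, d a * ∑ b ∈ S, d b * s b = 16 * s a := fun a ha => by
    rw [mul_sum, sum_congr rfl (g := fun b => ∑ c ∈ S, N a c * (N' c b * s b)) fun b hb => by
      rw [← mul_assoc, ← hN a ha b hb, sum_mul]
      exact sum_congr rfl fun c _ => by ring, sum_comm,
      sum_congr rfl (g := fun c => 4 * (N a c * s c)) fun c hc => by
        rw [← mul_sum, g2 c hc]; ring, ← mul_sum, g1 a ha]
    ring
  have g4 : ∀ a ∈ S, d a ^ 2 = 4 := fun a ha => by
    rcases hs' a ha with ⟨e, _⟩ | ⟨_, e⟩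
    · exact e
    · have b1 := g3 a ha
      have b2 := g3 x hx
      rw [e, mul_zero, mul_eq_zero] at b1
      rcases b1 with b1 | b1
      · exact absurd b1 (h0 a ha)
      · rw [b1] at b2
        rcases hs' x hx with ⟨_, e'⟩ | ⟨e', _⟩
        · exact absurd (by omega) (h0 x hx)
        · omega
  rw [sum_congr rfl g4, sum_const, nsmul_eq_mul] at hd
  omega

end Cfsg.Lib.R16.NineZ
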