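import Mathlib

/-! The integral core of `k(B) = 8` for elementary abelian defect groups of order eight. -/

set_option autoImplicit false

namespace Cfsg.Lib.R16

open Finset

namespace Pur8

variable {ι : Type*} [DecidableEq ι] {s : Finset ι} {N : ι → ι → ℤ}

theorem quad (sy : ∀ i j, N i j = N j i) (sq : ∀ i j, ∑ k ∈ s, N i k * N k j = 8 * N i j)
    (x y z : ι) (a b c : ℤ) :
    ∑ k ∈ s, (a * N x k + b * N y k + c * N z k) ^ 2 =
      8 * (a ^ 2 * N x x + b ^ 2 * N y y + c ^ 2 * N z z +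
        2 * (a * b * N x y + a * c * N x z + b * c * N y z)) := by
  have h : ∀ k, (a * N x k + b * N y k + c * N z k) ^ 2 =
      a ^ 2 * (N x k * N k x) + b ^ 2 * (N y k * N k y) + c ^ 2 * (N z k * N k z) +
        2 * a * b * (N x k * N k y) + 2 * a * c * (N x k * N k z) + 2 * b * c * (N y k * N k z) := by
    intro k
    rw [sy k x, sy k y, sy k z]
    ring
  simp only [h, sum_add_distrib, ← mul_sum, sq]
  ring

theorem nn (sy : ∀ i j, N i j = N j i) (sq : ∀ i j, ∑ k ∈ s, N i k * N k j = 8 * N i j)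
    (x y z : ι) (a b c : ℤ) :
    0 ≤ a ^ 2 * N x x + b ^ 2 * N y y + c ^ 2 * N z z +
        2 * (a * b * N x y + a * c * N x z + b * c * N y z) := by
  have h := quad sy sq x y z a b c
  have h2 : 0 ≤ ∑ k ∈ s, (a * N x k + b * N y k + c * N z k) ^ 2 :=
    sum_nonneg fun k _ => sq_nonneg _
  omega

theorem zer (sy : ∀ i j, N i j = N j i) (sq : ∀ i j, ∑ k ∈ s, N i k * N k j = 8 * N i j)
    (x y z : ι) (a b c : ℤ)
    (h0 : a ^ 2 * N x x + b ^ 2 * N y y + c ^ 2 * N z z +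
        2 * (a * b * N x y + a * c * N x z + b * c * N y z) = 0) (j : ι) :
    a * N x j + b * N y j + c * N z j = 0 := by
  have h := quad sy sq x y z a b c
  rw [h0, mul_zero, sum_eq_zero_iff_of_nonneg fun k _ => sq_nonneg _] at h
  have h3 : ∑ k ∈ s, (a * N x k + b * N y k + c * N z k) * N k j = 0 :=
    sum_eq_zero fun k hk => by rw [pow_eq_zero_iff two_ne_zero |>.1 (h k hk), zero_mul]
  have h4 : ∀ k, (a * N x k + b * N y k + c * N z k) * N k j =
      a * (N x k * N k j) + b * (N y k * N k j) + c * (N z k * N k j) := fun k => by ring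
  simp only [h4, sum_add_distrib, ← mul_sum, sq] at h3
  linarith

theorem evn (ev : ∀ a : ι → ℤ, (∀ j, ∑ i ∈ s, a i * N i j = 0) → Even (∑ i ∈ s, a i))
    {x y z : ι} (hx : x ∈ s) (hy : y ∈ s) (hz : z ∈ s) (a b c : ℤ)
    (h : ∀ j, a * N x j + b * N y j + c * N z j = 0) : Even (a + b + c) := by
  have h1 := ev (fun i => (if i = x then a else 0) + (if i = y then b else 0) +
    (if i = z then c else 0)) fun j => by
      simp only [add_mul, ite_mul, zero_mul, sum_add_distrib, sum_ite_eq', hx, hy, hz, if_true]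
      exact h j
  simpa only [sum_add_distrib, sum_ite_eq', hx, hy, hz, if_true] using h1

theorem s8 (x : ℤ) : x * x ≠ 8 := fun h => by
  have : x ≤ 2 := by nlinarith
  have : -2 ≤ x := by nlinarith
  interval_cases x <;> omega

theorem fin {x1 x2 x3 x4 x5 y1 y2 y3 y4 y5 z1 z2 z3 z4 z5 : ℤ}
    (g1 : (x1 = 0 ∧ y1 = 0 ∧ z1 = 1) ∨ (2 ≤ x1 ∧ y1 = 4 ∧ (x1 = 2 → z1 = 1)))
    (g2 : (x2 = 0 ∧ y2 = 0 ∧ z2 = 1) ∨ (2 ≤ x2 ∧ y2 = 4 ∧ (x2 = 2 → z2 = 1)))
    (g3 : (x3 = 0 ∧ y3 = 0 ∧ z3 = 1) ∨ (2 ≤ x3 ∧ y3 = 4 ∧ (x3 = 2 → z3 = 1)))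
    (f1 : (x4 = 0 ∧ z4 = 0) ∨ (x4 = 0 ∧ y4 = 0) ∨ 4 ≤ x4)
    (f2 : (x5 = 0 ∧ z5 = 0) ∨ (x5 = 0 ∧ y5 = 0) ∨ 4 ≤ x5)
    (a1 : y4 ≠ 8) (a2 : y5 ≠ 8) (Rt : x1 + x2 + x3 + x4 + x5 = 2)
    (Rcc : 4 + y1 + y2 + y3 + 4 * 4 + y4 + y5 = 8 * 4)
    (Rpp : 3 * 3 + z1 + z2 + z3 + 4 + z4 + z5 = 8 * 3) : False := by
  rcases g1 with ⟨_, _, _⟩ | ⟨_, _, _⟩ <;> rcases g2 with ⟨_, _, _⟩ | ⟨_, _, _⟩ <;>
    rcases g3 with ⟨_, _, _⟩ | ⟨_, _, _⟩ <;> rcases f1 with ⟨_, _⟩ | ⟨_, _⟩ | _ <;>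
    rcases f2 with ⟨_, _⟩ | ⟨_, _⟩ | _ <;> omega

end Pur8

open Pur8 in
theorem pur8 {ι : Type*} [DecidableEq ι] (s : Finset ι) (N : ι → ι → ℤ) (H : ι → Prop) (r : ℤ)
    (hr : r = 1 ∨ r = 3) (sy : ∀ i j, N i j = N j i)
    (sq : ∀ i j, ∑ k ∈ s, N i k * N k j = 8 * N i j)
    (pa : ∀ i ∈ s, ∀ j ∈ s, Odd (N i j) ↔ H i ∧ H j) (d0 : ∀ i ∈ s, H i → N i i = r)
    (d1 : ∀ i ∈ s, ¬ H i → N i i = 4) (tr : ∑ i ∈ s, N i i = 8 * r) (ne : ∃ i ∈ s, H i)
    (ev : ∀ a : ι → ℤ, (∀ j, ∑ i ∈ s, a i * N i j = 0) → Even (∑ i ∈ s, a i)) :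
    s.card = 8 ∧ ∀ i ∈ s, H i := by
  classical
  have htr : r * (s.filter H).card + 4 * (s.filter fun i => ¬ H i).card = 8 * r := by
    rw [← tr, ← sum_filter_add_sum_filter_not s H,
      sum_congr rfl fun i hi => d0 i (mem_filter.1 hi).1 (mem_filter.1 hi).2,
      sum_congr rfl fun i hi => d1 i (mem_filter.1 hi).1 (mem_filter.1 hi).2]
    simp [mul_comm]
  have hcard := card_filter_add_card_filter_not (s := s) H
  obtain ⟨p, hp, hpH⟩ := ne
  have hpos : 0 < (s.filter H).card := card_pos.2 ⟨p, mem_filter.2 ⟨hp, hpH⟩⟩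
  suffices h : (s.filter fun i => ¬ H i).card = 0 by
    refine ⟨by rcases hr with rfl | rfl <;> omega, fun i hi => ?_⟩
    by_contra hn
    have := card_pos.2 ⟨i, (mem_filter.2 ⟨hi, hn⟩ : i ∈ s.filter fun i => ¬ H i)⟩
    omega
  by_contra hk
  have h4 : (s.filter H).card = 4 := by rcases hr with rfl | rfl <;> omega
  -- row sums
  have row : ∀ i, ∑ k ∈ s.filter H, N i k * N k i +
      ∑ k ∈ s.filter (fun i => ¬ H i), N i k * N k i = 8 * N i i := fun i => by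
    rw [sum_filter_add_sum_filter_not, sq]
  have od : ∀ i ∈ s, H i → (∑ k ∈ s.filter H, N i k * N k i) % 8 = 4 := fun i hi hH => by
    rw [sum_int_mod, sum_congr rfl (g := fun _ => (1 : ℤ)) fun k hk => ?_]
    · simp [h4]
    · obtain ⟨m, hm⟩ := (pa i hi k (mem_filter.1 hk).1).2 ⟨hH, (mem_filter.1 hk).2⟩
      rw [sy k i, hm]
      obtain ⟨t, ht⟩ := Int.even_mul_succ_self m
      have : (2 * m + 1) * (2 * m + 1) = 1 + 8 * t := by linear_combination 4 * ht
      omega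
  have evv : ∀ i ∈ s, ∀ j ∈ s, ¬ H j → N i j % 2 = 0 := fun i hi j hj hH => by
    have := (pa i hi j hj).not.2 fun h => hH h.2
    rw [Int.not_odd_iff_even, Int.even_iff] at this
    exact this
  have odd : ∀ i ∈ s, ∀ j ∈ s, H i → H j → N i j % 2 = 1 := fun i hi j hj h1 h2 =>
    Int.odd_iff.1 ((pa i hi j hj).2 ⟨h1, h2⟩)
  -- a nonzero mixed entry
  obtain ⟨c, hc, hc0⟩ : ∃ c ∈ s.filter (fun i => ¬ H i), N p c ≠ 0 := by
    by_contra hn
    push Not at hn
    have h1 := row p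
    rw [sum_eq_zero (s := s.filter fun i => ¬ H i) fun k hk => by rw [hn k hk, zero_mul]] at h1
    have := od p hp hpH
    omega
  obtain ⟨hc, hcH⟩ := mem_filter.1 hc
  have hpc := evv p hp c hc hcH
  have dp := d0 p hp hpH
  have dc := d1 c hc hcH
  rcases hr with rfl | rfl
  · have h1 := nn sy sq p c c (-N p c) 1 0
    rw [dp, dc] at h1
    have h2 : N p c = 2 ∨ N p c = -2 := by
      have : N p c ≤ 2 := by nlinarith
      have : -2 ≤ N p c := by nlinarith
      omega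
    have h3 := evn ev hp hc hc (-N p c) 1 0 (zer sy sq p c c (-N p c) 1 0 (by
      rw [dp, dc]; rcases h2 with h | h <;> rw [h] <;> norm_num))
    rw [Int.even_iff] at h3
    omega
  have h3 : (s.filter fun i => ¬ H i).card = 3 := by omega
  have two : ∀ q ∈ s, H q → ∀ e ∈ s, ¬ H e → N q e = 0 ∨ N q e = 2 ∨ N q e = -2 := by
    intro q hq hqH e he heH
    have h1 := nn sy sq q e e 1 1 0
    have h2 := nn sy sq q e e 1 (-1) 0
    rw [d0 q hq hqH, d1 e he heH] at h1 h2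
    have := evv q hq e he heH
    omega
  have sg : ∃ t : ℤ, (t = 1 ∨ t = -1) ∧ N p c = 2 * t := by
    rcases two p hp hpH c hc hcH with h | h | h
    · exact absurd h hc0
    · exact ⟨1, Or.inl rfl, by omega⟩
    · exact ⟨-1, Or.inr rfl, by omega⟩
  obtain ⟨t, ht, htc⟩ := sg
  -- claim B
  have cB : ∀ q ∈ s, H q → N q c = 0 ∨ 2 ≤ t * (N p q * N q c) ∧
      (t * (N p q * N q c) = 2 → N p q = 1 ∨ N p q = -1) := by
    intro q hq hqH
    have o := odd p hp q hq hpH hqH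
    have dq := d0 q hq hqH
    have b1 := nn sy sq p q q 1 1 0
    have b2 := nn sy sq p q q 1 (-1) 0
    rw [dp, dq] at b1 b2
    have hv : N p q = 1 ∨ N p q = -1 ∨ N p q = 3 ∨ N p q = -3 := by omega
    have key : ∀ u : ℤ, (u = 1 ∨ u = -1) → N q c = 2 * u → 0 < t * u * N p q := by
      intro u hu hqc
      by_contra hn
      have e1 := nn sy sq p q c (-t) (-u) 1
      have e2 := fun h0 => evn ev hp hq hc (-t) (-u) 1 (zer sy sq p q c (-t) (-u) 1 h0)
      rw [dp, dq, dc, htc, hqc, Int.even_iff] at e2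
      rw [dp, dq, dc, htc, hqc, neg_sq, neg_sq] at e1
      rw [neg_sq, neg_sq] at e2
      have t2 : t ^ 2 = 1 := by rcases ht with rfl | rfl <;> norm_num
      have u2 : u ^ 2 = 1 := by rcases hu with rfl | rfl <;> norm_num
      rw [t2, u2] at e1 e2
      rcases ht with rfl | rfl <;> rcases hu with rfl | rfl <;> omega
    rcases two q hq hqH c hc hcH with h | h | h
    · exact Or.inl h
    · have := key 1 (Or.inl rfl) (by omega)
      right
      rw [h]
      rcases ht with rfl | rfl <;> omega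
    · have := key (-1) (Or.inr rfl) (by omega)
      right
      rw [h]
      rcases ht with rfl | rfl <;> omega
  -- claim C
  have cC : ∀ e ∈ s, ¬ H e → e ≠ c → N p e = 0 ∨ N e c = 0 ∨ 4 ≤ t * (N p e * N e c) := by
    intro e he heH _
    have o := evv e he c hc hcH
    have de := d1 e he heH
    have key : ∀ u : ℤ, (u = 1 ∨ u = -1) → N p e = 2 * u → 0 ≤ t * u * N e c := by
      intro u hu hpe
      have e1 := nn sy sq p e c 1 (-u) (-t)
      rw [dp, de, dc, htc, hpe, neg_sq, neg_sq] at e1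
      have t2 : t ^ 2 = 1 := by rcases ht with rfl | rfl <;> norm_num
      have u2 : u ^ 2 = 1 := by rcases hu with rfl | rfl <;> norm_num
      rw [t2, u2] at e1
      rcases ht with rfl | rfl <;> rcases hu with rfl | rfl <;> omega
    rcases two p hp hpH e he heH with h | h | h
    · exact Or.inl h
    · have := key 1 (Or.inl rfl) (by omega)
      rw [h]
      rcases ht with rfl | rfl <;> omega
    · have := key (-1) (Or.inr rfl) (by omega)
      rw [h]
      rcases ht with rfl | rfl <;> omega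
  -- enumerate
  obtain ⟨q1, q2, q3, n12, n13, n23, hq⟩ := card_eq_three.1
    (show ((s.filter H).erase p).card = 3 by rw [card_erase_of_mem (mem_filter.2 ⟨hp, hpH⟩), h4])
  obtain ⟨e1, e2, m12, he⟩ := card_eq_two.1
    (show ((s.filter fun i => ¬ H i).erase c).card = 2 by
      rw [card_erase_of_mem (mem_filter.2 ⟨hc, hcH⟩), h3])
  have sH : ∀ f : ι → ℤ, ∑ k ∈ s, f k = f p + f q1 + f q2 + f q3 + f c + f e1 + f e2 := fun f => by
    rw [← sum_filter_add_sum_filter_not s H, ← add_sum_erase _ _ (mem_filter.2 ⟨hp, hpH⟩ : p ∈ s.filter H),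
      ← add_sum_erase _ _ (mem_filter.2 ⟨hc, hcH⟩ : c ∈ s.filter fun i => ¬ H i), hq, he,
      sum_insert (by simp [n12, n13]), sum_pair n23, sum_pair m12]
    ring
  have mq : ∀ q, q = q1 ∨ q = q2 ∨ q = q3 → q ∈ s ∧ H q := fun q h => by
    have : q ∈ (s.filter H).erase p := by rw [hq]; simpa using h
    exact mem_filter.1 (mem_of_mem_erase this)
  have me : ∀ e, e = e1 ∨ e = e2 → e ≠ c ∧ e ∈ s ∧ ¬ H e := fun e h => by
    have : e ∈ (s.filter fun i => ¬ H i).erase c := by rw [he]; simpa using h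
    exact ⟨ne_of_mem_erase this, mem_filter.1 (mem_of_mem_erase this)⟩
  obtain ⟨s1, H1⟩ := mq q1 (by simp)
  obtain ⟨s2, H2⟩ := mq q2 (by simp)
  obtain ⟨s3, H3⟩ := mq q3 (by simp)
  obtain ⟨c1, u1, K1⟩ := me e1 (by simp)
  obtain ⟨c2, u2, K2⟩ := me e2 (by simp)
  have cD : ∀ q ∈ s, H q → N q c = 0 → N p q = 1 ∨ N p q = -1 := by
    intro q hq hqH h0
    have o := odd p hp q hq hpH hqH
    have dq := d0 q hq hqH
    have b1 := nn sy sq p q q 1 1 0
    have b2 := nn sy sq p q q 1 (-1) 0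
    have z1 := fun h => zer sy sq p q q 1 1 0 h c
    have z2 := fun h => zer sy sq p q q 1 (-1) 0 h c
    rw [dp, dq] at b1 b2 z1 z2
    omega
  have Rpc := sq p c
  have Rcc := sq c c
  have Rpp := sq p p
  rw [sH] at Rpc Rcc Rpp
  rw [sy c q1, sy c q2, sy c q3, sy c e1, sy c e2, sy c p, dc, htc] at Rcc
  rw [sy q1 p, sy q2 p, sy q3 p, sy e1 p, sy e2 p, sy c p, dp, htc] at Rpp
  rw [dp, dc, htc] at Rpc
  have Rt : t * (N p q1 * N q1 c) + t * (N p q2 * N q2 c) + t * (N p q3 * N q3 c) +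
      t * (N p e1 * N e1 c) + t * (N p e2 * N e2 c) = 2 := by
    rcases ht with rfl | rfl <;> linarith
  have tt : 2 * t * (2 * t) = 4 := by rcases ht with rfl | rfl <;> norm_num
  rw [tt] at Rcc Rpp
  have gq : ∀ q ∈ s, H q → (t * (N p q * N q c) = 0 ∧ N q c * N q c = 0 ∧ N p q * N p q = 1) ∨
      (2 ≤ t * (N p q * N q c) ∧ N q c * N q c = 4 ∧
        (t * (N p q * N q c) = 2 → N p q * N p q = 1)) := by
    intro q hq hqH
    rcases cB q hq hqH with h | ⟨h, h'⟩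
    · left
      refine ⟨by rw [h]; ring, by rw [h]; ring, ?_⟩
      rcases cD q hq hqH h with h1 | h1 <;> rw [h1] <;> norm_num
    · right
      refine ⟨h, ?_, fun h2 => ?_⟩
      · rcases two q hq hqH c hc hcH with h1 | h1 | h1
        · rw [h1] at h; simp at h
        · rw [h1]; norm_num
        · rw [h1]; norm_num
      · rcases h' h2 with h1 | h1 <;> rw [h1] <;> norm_num
  have ge : ∀ e ∈ s, ¬ H e → e ≠ c → (t * (N p e * N e c) = 0 ∧ N p e * N p e = 0) ∨
      (t * (N p e * N e c) = 0 ∧ N e c * N e c = 0) ∨ 4 ≤ t * (N p e * N e c) := by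
    intro e he heH hec
    rcases cC e he heH hec with h | h | h
    · left; rw [h]; simp
    · right; left; rw [h]; simp
    · exact Or.inr (Or.inr h)
  exact fin (gq q1 s1 H1) (gq q2 s2 H2) (gq q3 s3 H3) (ge e1 u1 K1 c1) (ge e2 u2 K2 c2)
    (s8 _) (s8 _) Rt Rcc Rpp

end Cfsg.Lib.R16
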